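import Cfsg.Agent.KZ.SporC.Tool
import Cfsg.Agent.TAB.B.C3.Act
import Cfsg.Agent.TAB.B.Fin.Cols
import Cfsg.Agent.S2084

/-!
# KZ: the Baby Monster (helper67)
-/

set_option autoImplicit false
set_option maxRecDepth 100000

namespace Cfsg.Agent.KZ.SporC

open Cfsg Subgroup Matrix Cfsg.Agent.KZ.Spor Cfsg.Agent.KZ.SporB Cfsg.Agent.TAB Cfsg.Agent.TAB.B.C3
open Cfsg.Agent.BMx.Fr3 Cfsg.Agent.TAB.Use
open Cfsg.Agent.H819.U33 (G)

/-- the projection to the first eight coordinates -/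
def E8 : Mt := diagonal fun i => if i = 8 then 0 else 1

theorem one_sub_E8 : 1 - E8 = diagonal fun i => if i = 8 then 1 else 0 := by decide +kernel

theorem chk_E8 : (3 : Mt) = 0 ∧ E8 * E8 = E8 ∧ M3 0 ≠ 1 ∧ E8 * M3 8 * E8 + (1 - E8) * M3 8 * (1 - E8) = 1 + E8 ∧
    E8 * M3 0 * E8 + (1 - E8) * M3 0 * (1 - E8) = 1 := by decide +kernel

theorem nine_of {K n : ℕ} (k : ℕ) (h1 : 3 ^ k ≤ 3 ^ n) (h : 3 ^ (n + 2) ∣ 3 ^ k * K) : 9 ∣ K := by
  have h2 := (Nat.pow_le_pow_iff_right (by norm_num)).1 h1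
  refine Nat.dvd_of_mul_dvd_mul_left (Nat.pow_pos (n := k) (by norm_num : 0 < 3)) (dvd_trans ?_ h)
  rw [pow_add]
  exact mul_dvd_mul (pow_dvd_pow 3 h2) dvd_rfl

theorem dvd_NN : 3 ^ 13 ∣ Nat.card NN := by
  refine dvd_trans ?_ (card_dvd_of_le (H := centralizer ({yy} : Set G)) ?_)
  · rw [H604.RB.ThreeB.card_y]
    decide
  · rw [← centralizer_closure, ← zpowers_eq_closure]
    exact centralizer_le_normalizer _

theorem big_NN : Big NN := by
  have := finG
  have : Fact (Nat.Prime 3) := ⟨Nat.prime_three⟩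
  have h1 : ∀ s, (1 - E8) * rho s * E8 = 0 := fun s => by
    ext i j
    rw [one_sub_E8, E8, mul_diagonal, diagonal_mul, Matrix.zero_apply]
    by_cases hj : j = 8
    · rw [if_pos hj, mul_zero]
    by_cases hi : i = 8
    · rw [hi, (good_rho s).sh j hj, mul_zero, zero_mul]
    · rw [if_neg hi, zero_mul, zero_mul]
  refine big_of_tri (ρ := rho) (E := E8) chk_E8.1 chk_E8.2.1 h1 (fun s hs => Subtype.ext ?_)
    (t := ⟨_, gen_mem 8⟩) (u := ⟨_, gen_mem 0⟩) (by rw [rho_gen]; exact chk_E8.2.2.2.1)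
    (by rw [rho_gen]; exact chk_E8.2.2.2.2) (by rw [rho_gen]; exact chk_E8.2.2.1) fun K hK h => ?_
  · obtain ⟨k, hk⟩ := (rho_ker s).1 hs
    rw [coe_pow, ← hk, ← zpow_natCast, ← _root_.zpow_mul, mul_comm, _root_.zpow_mul, zpow_natCast, ← order3,
      pow_orderOf_eq_one, _root_.one_zpow, coe_one]
  obtain ⟨k, hk⟩ := hK.exists_card_eq
  refine nine_of (n := 10) k ?_ (by rw [← hk, K.card_mul_index]; exact dvd_trans (by decide) dvd_NN)
  let r := rho.toHomUnits.comp K.subtype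
  have h2 : Nat.card r.ker ≤ Nat.card (zpowers yy) :=
    Nat.card_le_card_of_injective (fun s => ⟨s.1.1.1, (rho_ker _).1 (congrArg Units.val s.2)⟩) fun a b hab =>
      Subtype.ext (Subtype.ext (Subtype.ext (congrArg Subtype.val hab :)))
  have h3 : ∀ s : K, ∀ i j, j ≠ 8 → rho s i j = (1 : Mt) i j := fun s i j hj => by
    have h4 := eq_dia (h1 s)
    rw [h s s.2] at h4
    rw [h4, Matrix.add_apply, one_sub_E8, mul_diagonal, if_neg hj, mul_zero, add_zero]
  have h4 : Nat.card r.range ≤ Nat.card Vc := by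
    refine Nat.card_le_card_of_injective (fun X i => (X.1 : Mt) i 8) ?_
    rintro ⟨_, a, rfl⟩ ⟨_, b, rfl⟩ hab
    refine Subtype.ext (Units.ext (Matrix.ext fun i j => ?_))
    by_cases hj : j = 8
    · rw [hj]
      exact congrFun hab i
    · exact (h3 a i j hj).trans (h3 b i j hj).symm
  rw [Nat.card_zpowers, order3] at h2
  rw [Nat.card_fun, Nat.card_zmod, Nat.card_fin] at h4
  rw [← hk, ← r.ker.card_mul_index, index_ker]
  exact (Nat.mul_le_mul h2 h4).trans (by norm_num)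

theorem card_G : Nat.card G = 4154781481226426191177580544000000 := by
  obtain ⟨e⟩ := H604.RB.ThreeB.isoG
  exact (Nat.card_congr e.toEquiv).trans BM.KHAll.card_B

theorem big_G : Big G :=
  haveI := finG
  big_NN.of_sub NN (idx_sub dvd_NN (by rw [card_G]; decide))

theorem cp_G : CP G := by
  have := finG
  have : Fact (Nat.Prime 3) := ⟨Nat.prime_three⟩
  obtain ⟨Q, -, hQ, -, -, h⟩ := H604.RB.ThreeB.qframe_y
  obtain ⟨P, hP⟩ := hQ.exists_le_sylow
  exact cp_of_one P fun x hx => eq_one_of_mem (IsPGroup.of_card (n := 1) (by rw [Nat.card_zpowers, order3, pow_one]))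
    (h x fun q hq => mem_centralizer_iff.1 hx q (hP hq))

theorem good_B (hL : DegList Spor.BabyMonster B.Fin.degs) : Spor.Good Spor.BabyMonster := by
  have := finG
  obtain ⟨e⟩ := H604.RB.ThreeB.isoG
  have : Finite Spor.BabyMonster := Finite.of_equiv _ e.toEquiv
  exact good_of_one S2084.result (big_G.congr e) (cp_congr e.symm cp_G) hL (by decide +kernel)

theorem goodF_B (hL : DegList Spor.BabyMonster B.Fin.degs) : GoodF fun S _ => Spor.IsoB S := goodF_of (good_B hL)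

end Cfsg.Agent.KZ.SporC
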