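import Cfsg.Agent.KZ.SporC.Tool
import Cfsg.Agent.H834.T3Fi22
import Cfsg.Agent.TAB.F22.Main
import Cfsg.Agent.S2079

/-!
# KZ: the group `Fi₂₂` (helper67)
-/

set_option autoImplicit false
set_option maxRecDepth 100000

namespace Cfsg.Agent.KZ.SporC

open Cfsg Subgroup Cfsg.Agent.KZ.Spor Cfsg.Agent.KZ.SporB Cfsg.Agent.TAB Cfsg.Agent.H834.Ext

theorem no_neg : ∀ v : V, ¬ ∀ a, -a = a + v := by decide

section

variable {G : Type*} [Group G] {D : Set G} (Δ : ZData G D)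

theorem cent_E {x : G} (h : ∀ y ∈ Δ.E, y * x = x * y) : x ∈ Δ.E := by
  refine Δ.mem_E_of_comm (centralizer_le_normalizer _ ?_) fun y hy => (h y hy).symm
  rw [H834.TThree.centralizer_zpowers_eq]
  exact mem_centralizer_singleton_iff.2 (h _ Δ.z_mem).symm

/-- the reflection -/
def rf : G := Δ.T 0 0 * Δ.T 1 0 * Δ.T 2 0

theorem conj_T (i j : Fin 3) (a : V) : Δ.T j 0 * Δ.T i a * (Δ.T j 0)⁻¹ = Δ.T i (if i = j then -a else a) := by
  by_cases h : i = j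
  · rw [if_pos h, Δ.inv_T, h, Δ.refl, zero_add]
  · rw [if_neg h, ← Δ.comm i j h, mul_inv_cancel_right]

theorem rf_conj (i : Fin 3) (a : V) : rf Δ * Δ.T i a * (rf Δ)⁻¹ = Δ.T i (-a) := by
  rw [show rf Δ * Δ.T i a * (rf Δ)⁻¹ = Δ.T 0 0 * (Δ.T 1 0 * (Δ.T 2 0 * Δ.T i a * (Δ.T 2 0)⁻¹) * (Δ.T 1 0)⁻¹) *
    (Δ.T 0 0)⁻¹ by unfold rf; group, conj_T, conj_T, conj_T]
  fin_cases i <;> rfl

theorem rf_comm {g : G} (hg : g ∈ Δ.N) : g * rf Δ * g⁻¹ * (rf Δ)⁻¹ ∈ Δ.E := fun i => by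
  obtain ⟨j, f, hf, hadd, hinj⟩ := Δ.aff (inv_mem hg) i
  obtain ⟨u, hu⟩ := (Finite.injective_iff_surjective.1 hinj) (-f 0)
  refine ⟨u, fun a => ?_⟩
  have h1 : (rf Δ)⁻¹ * Δ.T i a * rf Δ = Δ.T i (-a) := by
    conv_lhs => rw [← neg_neg a, ← rf_conj]
    group
  have h2 : f (a + u) = -f (-a) := by
    have h3 := hadd a (-a)
    rw [add_neg_cancel] at h3
    rw [hadd, hu, eq_neg_iff_add_eq_zero]
    linear_combination -h3
  rw [show g * rf Δ * g⁻¹ * (rf Δ)⁻¹ * Δ.T i a * (g * rf Δ * g⁻¹ * (rf Δ)⁻¹)⁻¹ =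
    g * (rf Δ * (g⁻¹ * ((rf Δ)⁻¹ * Δ.T i a * rf Δ) * g⁻¹⁻¹) * (rf Δ)⁻¹) * g⁻¹ by group, h1, hf, rf_conj, ← h2, ← hf]
  group

theorem exists_le_N [Finite G] : ∃ P : Sylow 3 G, (P : Subgroup G) ≤ Δ.N := by
  have : Fact (Nat.Prime 3) := ⟨Nat.prime_three⟩
  obtain ⟨P, hP⟩ := Δ.isPGroup_E.exists_le_sylow
  have : Nontrivial (P : Subgroup G) := ⟨⟨_, hP Δ.z_mem⟩, 1, fun h => Δ.z1 (congrArg Subtype.val h)⟩
  obtain ⟨x, hx⟩ := @exists_ne _ P.2.center_nontrivial 1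
  have h1 : ∀ y ∈ (P : Subgroup G), y * x = x * y := fun y hy => congrArg Subtype.val (mem_center_iff.1 x.2 ⟨y, hy⟩)
  have h2 := Δ.zpowers_eq (Δ.mem_z_of_comm (cent_E Δ fun y hy => h1 y (hP hy)) fun y hy => (h1 y (hP hy)).symm)
  refine ⟨P, fun y hy => centralizer_le_normalizer _ ?_⟩
  rw [H834.TThree.centralizer_zpowers_eq, mem_centralizer_singleton_iff]
  have h3 : Commute y x := h1 y hy
  rcases h2 with h2 | h2 | h2
  · exact absurd (Subtype.ext (Subtype.ext h2)) hx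
  · exact h2 ▸ h3
  · have h4 := h3.mul_right h3
    rwa [h2, ← mul_assoc, Δ.z3, one_mul] at h4

include Δ in
theorem big_of_zdata [Finite G] (h9 : 3 ^ 9 ∣ Nat.card G) : Big G := by
  have : Fact (Nat.Prime 3) := ⟨Nat.prime_three⟩
  obtain ⟨P, hP⟩ := exists_le_N Δ
  refine Big.of_sub Δ.N (fun h => P.not_dvd_index (h.trans (index_dvd_of_le hP))) ?_
  have : (Δ.E.subgroupOf Δ.N).Normal := ⟨fun x hx g => Δ.E_conj g.2 hx⟩
  have h1 := QuotientGroup.ker_mk' (Δ.E.subgroupOf Δ.N)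
  have h2 : rf Δ ∈ Δ.N := mul_mem (mul_mem (Δ.T_mem_N _ _) (Δ.T_mem_N _ _)) (Δ.T_mem_N _ _)
  refine Big.of_T' (QuotientGroup.mk' (Δ.E.subgroupOf Δ.N)) (h1.symm ▸ Δ.isPGroup_EN) ?_ ⟨_, h2⟩ (fun g => ?_)
    (fun h => ?_) (fun h => ?_) ?_
  · rw [h1]
    exact fun x hx => cent_E Δ fun y hy => congrArg Subtype.val (mem_centralizer_iff.1 hx ⟨y, Δ.E_le_N hy⟩ hy)
  · rw [eq_comm, ← mul_inv_eq_one, mul_inv_rev, ← mul_assoc, ← map_inv, ← map_inv, ← map_mul, ← map_mul, ← map_mul,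
      ← MonoidHom.mem_ker, h1]
    exact rf_comm Δ g.2
  · rw [← MonoidHom.mem_ker, h1] at h
    obtain ⟨v, hv⟩ := h 0
    have h3 := fun a => (Δ.inj _ _ _ _ ((rf_conj Δ 0 a).symm.trans (hv a))).2
    exact no_neg v h3
  · have h3 := h.trans (orderOf_dvd_of_pow_eq_one (n := 2) (by
      rw [← map_pow, ← MonoidHom.mem_ker, h1]
      refine fun i => ⟨0, fun a => ?_⟩
      change rf Δ ^ 2 * _ * (rf Δ ^ 2)⁻¹ = _
      rw [show rf Δ ^ 2 * Δ.T i a * (rf Δ ^ 2)⁻¹ = rf Δ * (rf Δ * Δ.T i a * (rf Δ)⁻¹) * (rf Δ)⁻¹ by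
        rw [pow_two]; group, rf_conj, rf_conj, neg_neg, add_zero]))
    omega
  · have h3 := (P.pow_dvd_card_of_pow_dvd_card h9).trans (card_dvd_of_le hP)
    rw [← (Δ.E.subgroupOf Δ.N).card_mul_index, Δ.card_EN] at h3
    rw [← index_ker, h1]
    exact Nat.dvd_of_mul_dvd_mul_left (by norm_num : 0 < 3 ^ 7) h3

end

theorem good_F22 : Good Spor.Fi22 := by
  have := F22.fin22
  have Δ := (H834.TThree.modelOf (MulEquiv.refl Spor.Fi22)).zdata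
  exact Good.of_big S2079.result.le (big_of_zdata Δ (by rw [Fischer.Fi22Order.card_fi22]; decide))
    (cp_of_sub Δ.E Δ.isPGroup_E fun _ => cent_E Δ) F22.deg (by decide +kernel)

theorem goodF_F22 : GoodF fun S _ => Spor.IsoFi22 S := goodF_of good_F22

end Cfsg.Agent.KZ.SporC
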