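import Cfsg.Agent.KZ.SporC.B
import Cfsg.Agent.H54.Kill.B
import Cfsg.Agent.TAB.F23.Use
import Cfsg.Agent.S2080

/-!
# KZ: the group `Fi₂₃`, which contains a Sylow `3`-subgroup of the Baby Monster (helper67)
-/

set_option autoImplicit false
set_option maxRecDepth 100000

namespace Cfsg.Agent.KZ.SporC

open Cfsg Subgroup Cfsg.Agent.KZ.Spor Cfsg.Agent.KZ.SporB Cfsg.Agent.TAB Cfsg.Agent.TAB.Use

theorem big_cp_F23 : Big Spor.Fi23 ∧ CP Spor.Fi23 := by
  have := TAB.B.C3.finG
  obtain ⟨e⟩ := H604.RB.ThreeB.isoG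
  obtain ⟨f, hf⟩ := H54.Kill.B.exists_hom
  have h1 : Function.Injective (e.symm.toMonoidHom.comp f) := e.symm.injective.comp hf
  have h2 := idx_of_card h1 (k := 13) (by rw [S1697.result.2]; decide) (by rw [card_G]; decide)
  exact ⟨big_down _ h1 h2 big_G, cp_down _ h1 h2 cp_G⟩

theorem good_F23 (hL : DegList Spor.Fi23 F23.degs) : Good Spor.Fi23 :=
  haveI := finite_of_card S1697.result.2 (by decide)
  good_of_one S2080.result big_cp_F23.1 big_cp_F23.2 hL (by decide +kernel)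

theorem goodF_F23 (hL : DegList Spor.Fi23 F23.degs) : GoodF fun S _ => Spor.IsoFi23 S := goodF_of (good_F23 hL)

end Cfsg.Agent.KZ.SporC
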