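import Cfsg.Agent.KZ.SporC.Tool
import Cfsg.Agent.H841.TwG
import Cfsg.Agent.S1698
import Cfsg.Agent.S2081

/-!
# KZ: the group `Fi₂₄'` (helper67)
-/

set_option autoImplicit false
set_option maxRecDepth 100000

namespace Cfsg.Agent.KZ.SporC

open Cfsg Subgroup Cfsg.Agent.KZ.Spor Cfsg.Agent.KZ.SporB Cfsg.Agent.TAB Cfsg.Agent.TAB.Use
open Cfsg.Agent.H841.Tri Cfsg.Agent.H841.Ext
open Cfsg.Agent.R08.FiTwentyFour (finite_Fi24)
open Cfsg.Agent.LThreeFi24.FiveConj (card_Fi24)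

theorem big_NX : Big NX := by
  have := finite_Fi24
  obtain ⟨hn, ⟨j⟩⟩ := quot_NX
  let f := j.toMonoidHom.comp (QuotientGroup.mk' (QQ DN))
  have h1 : f.ker = QQ DN := by
    rw [← MonoidHom.comap_ker, (MonoidHom.ker_eq_bot_iff _).2 j.injective, MonoidHom.comap_bot, QuotientGroup.ker_mk']
  obtain ⟨t, ht⟩ := j.surjective.comp (QuotientGroup.mk'_surjective (QQ DN)) (Multiplicative.ofAdd 1, 1)
  change f t = _ at ht
  refine Big.of_T' f (h1 ▸ IsPGroup.of_card card_QQ) (h1 ▸ cent_QQ) t (fun h => ?_) (fun h => ?_) (fun h => ?_) ?_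
  · rw [ht]
    exact Prod.ext (mul_comm _ _) ((one_mul _).trans (mul_one _).symm)
  · rw [ht] at h
    exact absurd (congrArg Prod.fst h) (by decide)
  · have h2 := h.trans (orderOf_dvd_of_pow_eq_one (show f t ^ 2 = 1 by
      rw [ht]
      exact Prod.ext (by decide) (one_pow _)))
    omega
  · have h2 := f.ker.card_mul_index
    rw [index_ker, h1, card_QQ, card_NX] at h2
    rw [Nat.eq_of_mul_eq_mul_left (by norm_num) h2]
    decide

theorem cp_Fi24 : CP Spor.Fi24 := by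
  have := finite_Fi24
  obtain ⟨P, h⟩ := exists_sylow3
  refine cp_of_one P fun x hx => eq_one_of_mem (R := zpowers _) (IsPGroup.of_card (n := 1) ?_)
    (h x fun q hq => (mem_centralizer_iff.1 hx q hq).symm)
  have h1 := card_xN
  rw [Nat.card_zpowers] at h1 ⊢
  exact (Subgroup.orderOf_coe xN).trans h1

theorem big_cp_F24 : Big Spor.Fi24' ∧ CP Spor.Fi24' := by
  have := finite_Fi24
  have h1 := (commutator Spor.Fi24).subtype_injective
  have h2 := idx_of_card h1 (k := 16) (by rw [S1698.result.2]; decide) (by rw [card_Fi24]; decide)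
  exact ⟨big_down _ h1 h2 (big_NX.of_sub NX (idx_sub (k := 16) (by rw [card_NX]; decide) (by rw [card_Fi24]; decide))),
    cp_down _ h1 h2 cp_Fi24⟩

theorem good_F24 {L : List ℕ} (hL : DegList Spor.Fi24' L) (h : 10 ≤ m3 L ∧ 19 ≤ m3 L + 3 * u3 L ∧ 2 ≤ u3 L) :
    Good Spor.Fi24' :=
  haveI := finite_Fi24
  Good.of_big S2081.result.le big_cp_F24.1 big_cp_F24.2 hL h

theorem goodF_F24 {L : List ℕ} (hL : DegList Spor.Fi24' L) (h : 10 ≤ m3 L ∧ 19 ≤ m3 L + 3 * u3 L ∧ 2 ≤ u3 L) :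
    GoodF fun S _ => Spor.IsoFi24' S := goodF_of (good_F24 hL h)

end Cfsg.Agent.KZ.SporC
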