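import Cfsg.Agent.KZ.SporC.Tool
import Cfsg.Agent.H285.Ccp.HNThree
import Cfsg.Agent.TAB.HN.Tab
import Cfsg.Agent.S2082

/-!
# KZ: the Harada-Norton group (helper67)
-/

set_option autoImplicit false
set_option maxRecDepth 100000

namespace Cfsg.Agent.KZ.SporC

open Cfsg Subgroup Cfsg.Agent.KZ.Spor Cfsg.Agent.KZ.SporB Cfsg.Agent.TAB Cfsg.Agent.TAB.Eng Cfsg.Agent.TAB.Use
open Cfsg.Agent.H285.HN3

theorem big_HN : Big Spor.HN := by
  have := finite_of_card card_HN (by decide)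
  refine Big.of_sub P index_P ?_
  have h1 : zpowers W ≤ ext.Q := zpowers_le.2 ext.w_mem
  have h2 : P ≤ centralizer ({W} : Set Spor.HN) := by
    rintro _ ⟨q, hq, s, rfl⟩
    exact mul_mem (mem_centralizer_singleton_iff.2 (ext.comm_w q hq))
      (zpow_mem (mem_centralizer_singleton_iff.2 (mul_inv_eq_iff_eq_mul.1 F_W)) s)
  have h3 : ((zpowers W).subgroupOf P).Normal := ⟨fun x ⟨k, hk⟩ g => ⟨k, by
    have h4 : Commute g.1 W := mem_centralizer_singleton_iff.1 (h2 g.2)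
    have h5 : W ^ k = x.1 := hk
    change W ^ k = g.1 * x.1 * g.1⁻¹
    rw [← h5, (h4.zpow_right k).eq, mul_inv_cancel_right]⟩⟩
  have h4 : (ext.Q.subgroupOf P).Normal := ⟨fun x hx g => by
    obtain ⟨q, hq, s, h⟩ := g.2
    change g.1 * x.1 * g.1⁻¹ ∈ ext.Q
    rw [h, show q * F ^ s * x.1 * (q * F ^ s)⁻¹ = q * (F ^ s * x.1 * (F ^ s)⁻¹) * q⁻¹ by group]
    exact mul_mem (mul_mem hq (Fz_Q s _ hx)) (inv_mem hq)⟩
  have h5 : Nat.card (ext.Q.subgroupOf P) = Nat.card ext.Q := Nat.card_congr (subgroupOfEquivOfLe Q_le_P).toEquiv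
  refine Big.of_CZ ((zpowers W).subgroupOf P) (ext.Q.subgroupOf P) (comap_mono h1)
    (fun a ha b hb => ext.commutator_mem _ ha _ hb) (fun a ha => ?_) ?_ fun h => ?_
  · change a.1 ^ 3 ∈ zpowers W
    rw [ext.pow_eq_one (by decide) a.1 ha]
    exact one_mem _
  · rw [h5, Nat.card_congr (subgroupOfEquivOfLe (h1.trans Q_le_P)).toEquiv, Nat.card_zpowers, ext.hw]
    exact ext.le_card
  · have h6 := (mul_dvd_mul (h5 ▸ ext.pow_dvd_card Nat.prime_three (by decide)) h).trans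
      ((ext.Q.subgroupOf P).card_mul_index.dvd.trans (card_subgroup_dvd_card P))
    rw [card_HN] at h6
    norm_num at h6

theorem good_HN {T : TD Spor.HN HN.dat} (h : Tab T HN.rows) : Good Spor.HN :=
  haveI := finite_of_card card_HN (by decide)
  Good.of_big S2082.result.le big_HN (cp_of_tab h (by decide +kernel)) h.degList (by decide +kernel)

theorem goodF_HN {T : TD Spor.HN HN.dat} (h : Tab T HN.rows) : GoodF fun S _ => Spor.IsoHN S := goodF_of (good_HN h)

end Cfsg.Agent.KZ.SporC
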