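import Cfsg.Agent.KZ.SporC.Tool
import Cfsg.Agent.TAB.M.Main
import Cfsg.Agent.S2085

/-!
# KZ: the Monster (helper67)
-/

set_option autoImplicit false
set_option maxRecDepth 100000

namespace Cfsg.Agent.KZ.SporC

open Cfsg Subgroup Matrix Cfsg.Agent.KZ.Spor Cfsg.Agent.KZ.SporB Cfsg.Agent.TAB Cfsg.Agent.TAB.C3B
open Cfsg.Agent.H920.Sz12 Cfsg.Agent.BpSpor.MBigModel

section

variable {D : Type*} [Group D] (m : C3B.Mod D)

theorem ker_three : IsPGroup 3 m.R.ker := fun g => by
  obtain ⟨v, c, h⟩ := C3B.Mod.exists_el (m := m) (g := g) m.K_one (by rw [map_one]; exact g.2)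
  refine ⟨1, Subtype.ext ?_⟩
  rw [pow_one, coe_pow, h, C3B.Mod.el, one_mul, (m.X_comm c _).mul_pow, β_cube, m.X_pow,
    show ((3 : ℕ) : ZMod 3) = 0 by decide, zero_mul, m.X_zero, mul_one, coe_one]

theorem cent_ker : centralizer (m.R.ker : Set D) ≤ m.R.ker := fun g hg => by
  obtain ⟨k, v, hk, rfl⟩ := m.dec g
  rw [MonoidHom.mem_ker, map_mul, m.R_β, mul_one]
  refine Units.ext (vecMul_ext fun w => ?_)
  have h1 : m.el 1 w 0 * m.el k v 0 = m.el k v 0 * m.el 1 w 0 := by
    have h2 := mem_centralizer_iff.1 hg (m.β w) (m.R_β w)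
    simpa only [C3B.Mod.el, m.X_zero, mul_one, one_mul] using h2
  rw [C3B.Mod.el_mul hk, C3B.Mod.el_mul m.K_one, one_mul, mul_one, map_one] at h1
  have h2 := (C3B.Mod.el_inj hk h1).1
  rw [Units.val_one, vecMul_one, add_comm v] at h2
  rw [Units.val_one, vecMul_one]
  exact add_right_cancel h2

include m in
theorem big_mod [Finite D] : Big D := by
  refine Big.of_T' m.R (ker_three m) (cent_ker m) m.z (fun h => by rw [m.R_z, neg_one_mul, mul_neg_one])
    (by rw [m.R_z]; exact m1_ne) (fun h => ?_) ?_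
  · have h1 := h.trans (orderOf_dvd_of_pow_eq_one (show m.R m.z ^ 2 = 1 by rw [m.R_z, neg_one_sq]))
    omega
  · have h1 : m.R.range = W := le_antisymm (by rintro _ ⟨g, rfl⟩; exact m.R_mem g) fun A hA =>
      (m.R_surj A hA).imp fun _ h => h.2
    rw [h1, card_W]
    decide

end

theorem card_MG : Nat.card MG = 808017424794512875886459904961710757005754368000000000 := by
  obtain ⟨e⟩ := H593.IMMon.equivMG
  obtain ⟨T, hm, -⟩ := M.out.tab
  exact (Nat.card_congr e.toEquiv).symm.trans hm.1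

theorem big_MG : Big MG := by
  have := finite
  obtain ⟨C, m, -, -, -⟩ := exists_env
  exact (big_mod m).of_sub C (idx_sub (k := 20) (by rw [m.card_eq]; decide) (by rw [card_MG]; decide))

theorem cp_MG : CP MG := by
  have := finite
  obtain ⟨C, m, -, hC, -⟩ := exists_env
  refine cp_of_sub (m.R.ker.map C.subtype) ((ker_three m).map _) fun x hx => ?_
  have h1 : x ∈ C := by
    rw [← hC]
    exact mem_centralizer_singleton_iff.2 (hx _ ⟨_, m.R_X 1, rfl⟩).symm
  exact ⟨⟨x, h1⟩, cent_ker m (mem_centralizer_iff.2 fun y hy => Subtype.ext (hx _ ⟨y, hy, rfl⟩)), rfl⟩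

theorem good_M : Good Spor.Monster := by
  have := finite
  obtain ⟨e⟩ := H593.IMMon.equivMG
  have : Finite Spor.Monster := Finite.of_equiv _ e.symm.toEquiv
  exact good_of_one S2085.result (big_MG.congr e.symm) (cp_congr e cp_MG) M.deg (by decide +kernel)

theorem goodF_M : GoodF fun S _ => Spor.IsoM S := goodF_of good_M

end Cfsg.Agent.KZ.SporC
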