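import Cfsg.Agent.KZ.SporC.Tool
import Cfsg.Agent.KZ.SporB.Tool
import Cfsg.Agent.TAB.Th.Main
import Cfsg.Agent.S2083

/-!
# KZ: the Thompson group (helper67)
-/

set_option autoImplicit false
set_option maxRecDepth 100000

namespace Cfsg.Agent.KZ.SporC

open Cfsg Subgroup Cfsg.Agent.KZ.Spor Cfsg.Agent.KZ.SporB Cfsg.Agent.TAB Cfsg.Agent.H777.Th3

theorem T_X : ∀ (a b c d : ZMod 3) (e : V5),
    T a b c d (X e) = X (T (2 * a + 2 * b) a (c + a + 2 * b) (d + 2 * b) e) := by decide +kernel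

theorem T_iter (n : ℕ) (a b c d : ZMod 3) : ∃ a' b' c' d', a' - b' = a - b ∧ a' - c' = a - c ∧
    ∀ e, T a b c d (X^[n] e) = X^[n] (T a' b' c' d' e) := by
  induction n with
  | zero => exact ⟨a, b, c, d, rfl, rfl, fun _ => rfl⟩
  | succ n ih =>
    obtain ⟨a', b', c', d', h1, h2, h3⟩ := ih
    have h4 : ∀ a b c : ZMod 3, 2 * a + 2 * b - a = a - b ∧ 2 * a + 2 * b - (c + a + 2 * b) = a - c := by decide
    exact ⟨_, _, _, _, (h4 a' b' c').1.trans h1, (h4 a' b' c').2.trans h2, fun e => by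
      rw [Function.iterate_succ_apply, h3, T_X, Function.iterate_succ_apply]⟩

theorem X_val (f f' : ZMod 3) (e : V5) : X^[f'.val] (X^[f.val] e) = X^[(f + f').val] e := by
  have h : ∀ f f' : ZMod 3, f'.val + f.val = (f + f').val ∨ f'.val + f.val = (f + f').val + 3 := by decide
  rw [← Function.iterate_add_apply]
  rcases h f f' with h | h <;> rw [h]
  rw [Function.iterate_add_apply]
  exact congrArg _ (X_three e)

theorem big_Th : Big Spor.Th := by
  have := TAB.Th.finTh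
  have : Fact (Nat.Prime 3) := ⟨Nat.prime_three⟩
  have h0 := Dat.card_Sg th_u1_ne
  choose a b c d f h using fun x : thDat.Sg => Dat.act_of_mem_Sg x.2
  have h1 : ∀ (x : thDat.Sg) {a' b' c' d' f' : ZMod 3}, thDat.Act x (Dat.Aq a' b' c' d' f') →
      a x = a' ∧ b x = b' ∧ c x = c' ∧ d x = d' ∧ f x = f' := fun x _ _ _ _ _ h1 =>
    Dat.Aq_inj (Dat.act_unique th_u1_ne (h x) h1)
  have h2 : ∀ x y : thDat.Sg, a (x * y) - b (x * y) = (a x - b x) + (a y - b y) ∧
      a (x * y) - c (x * y) = (a x - c x) + (a y - c y) ∧ f (x * y) = f x + f y := fun x y => by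
    obtain ⟨a', b', c', d', e1, e2, e3⟩ := T_iter (f x).val (a y) (b y) (c y) (d y)
    obtain ⟨e4, e5, e6, -, e7⟩ := h1 (x * y) (a' := a' + a x) (b' := b' + b x) (c' := c' + c x) (d' := d' + d x)
      (f' := f x + f y) (((h x).mul (h y)).congr fun e => by
        unfold Dat.Aq
        rw [e3, X_val, T_T])
    rw [e4, e5, e6, e7, ← e1, ← e2]
    exact ⟨by ring, by ring, rfl⟩
  refine big_of_coords (X := thDat.Sg) (fun P => ⟨((IsPGroup.of_card h0).toSylow
    (idx_sub (k := 10) h0.symm.dvd (by rw [TAB.Th.cardTh]; decide))).equiv P⟩)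
    (fun x => a x - b x) (fun x => a x - c x) f (fun x y => (h2 x y).1) (fun x y => (h2 x y).2.1)
    (fun x y => (h2 x y).2.2) fun i j k => ?_
  obtain ⟨e1, e2, e3, -, e4⟩ := h1 ⟨_, thDat.mem_Sg.2 ⟨0, 0, -i, -j, 0, k, rfl⟩⟩ (Dat.act_w5 _ _ _ _ _ _)
  exact ⟨_, by rw [e1, e2, zero_sub, neg_neg], by rw [e1, e3, zero_sub, neg_neg], e4⟩

theorem good_Th : Good Spor.Th := by
  have := TAB.Th.finTh
  obtain ⟨T, -, -, -, -, h⟩ := TAB.Th.tab
  exact good_of_one S2083.result big_Th (cp_of_tab h (by decide +kernel)) TAB.Th.deg (by decide +kernel)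

theorem goodF_Th : GoodF fun S _ => Spor.IsoTh S := goodF_of good_Th

end Cfsg.Agent.KZ.SporC
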