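import Cfsg.Agent.KZ.SporB.Tool
import Cfsg.Agent.KZ.Spor.Main

/-!
# KZ: tools for the large sporadic groups (helper67)

* `good_of_one` : groups without outer automorphisms;
* `big_of_tri` : a block triangular representation with a central reflection.
-/

set_option autoImplicit false

namespace Cfsg.Agent.KZ.SporC

open Cfsg Subgroup Cfsg.Agent.KZ.Spor Cfsg.Agent.TAB.Use

universe u v

/-- groups without outer automorphisms -/
theorem good_of_one {S : Type u} [Group S] [Finite S] {L : List ℕ} (ho : out S = 1) (hB : Big S) (hC : CP S)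
    (hL : DegList S L) (h : 10 ≤ m3 L) : Good S where
  out_le := by omega
  up := .inl hB
  lo := .inr fun M hM => ⟨h.trans (m3_le_k0 hM hC hL), by omega⟩
  one := .inl ho

section

variable {N : Type u} {R : Type v} [Group N] [Ring R] {ρ : N →* R} {E : R}

/-- the block diagonal part -/
def dia (E X : R) : R := E * X * E + (1 - E) * X * (1 - E)

theorem dia_mul (hE : E * E = E) {X Y : R} (hX : (1 - E) * X * E = 0) (hY : (1 - E) * Y * E = 0) :
    dia E (X * Y) = dia E X * dia E Y := by
  have h1 : E * (1 - E) = 0 := by rw [mul_sub, mul_one, hE, sub_self]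
  have h2 : (1 - E) * E = 0 := by rw [sub_mul, one_mul, hE, sub_self]
  have h3 : (1 - E) * (1 - E) = 1 - E := by rw [mul_sub, mul_one, h2, sub_zero]
  have h4 : E * (X * Y) * E = E * X * E * Y * E + E * X * ((1 - E) * Y * E) := by noncomm_ring
  have h5 : (1 - E) * (X * Y) * (1 - E) =
      (1 - E) * X * E * Y * (1 - E) + (1 - E) * X * (1 - E) * Y * (1 - E) := by noncomm_ring
  have h6 : dia E X * dia E Y = E * X * (E * E) * Y * E + E * X * (E * (1 - E)) * Y * (1 - E) +
      (1 - E) * X * ((1 - E) * E) * Y * E + (1 - E) * X * ((1 - E) * (1 - E)) * Y * (1 - E) := by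
    unfold dia
    simp only [mul_add, add_mul, mul_assoc]
    abel
  rw [h6, h1, h2, h3, hE, dia, h4, h5, hX, hY]
  simp

/-- the block diagonal part of a block triangular representation -/
def diaHom (ρ : N →* R) (hE : E * E = E) (h : ∀ s, (1 - E) * ρ s * E = 0) : N →* R where
  toFun s := dia E (ρ s)
  map_one' := by
    have h2 : (1 - E) * E = 0 := by rw [sub_mul, one_mul, hE, sub_self]
    rw [map_one, dia, mul_one, mul_one, hE, mul_sub, mul_one, h2, sub_zero, add_sub_cancel]
  map_mul' a b := by rw [map_mul, dia_mul hE (h a) (h b)]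

theorem eq_dia {X : R} (hX : (1 - E) * X * E = 0) : X = dia E X + E * X * (1 - E) := by
  have h : X = dia E X + E * X * (1 - E) + (1 - E) * X * E := by
    unfold dia
    noncomm_ring
  rwa [hX, add_zero] at h

/-- **A block triangular representation in characteristic three.** -/
theorem big_of_tri [Finite N] (h3 : (3 : R) = 0) (hE : E * E = E) (h : ∀ s, (1 - E) * ρ s * E = 0)
    (hk : ∀ s, ρ s = 1 → s ^ 3 = 1) {t u : N} (ht : dia E (ρ t) = 1 + E) (hu : dia E (ρ u) = 1) (hu1 : ρ u ≠ 1)
    (h9 : ∀ K : Subgroup N, IsPGroup 3 K → (∀ s ∈ K, dia E (ρ s) = 1) → 9 ∣ K.index) : Big N := by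
  have h1 : E * (1 - E) = 0 := by rw [mul_sub, mul_one, hE, sub_self]
  have h2 : (1 - E) * E = 0 := by rw [sub_mul, one_mul, hE, sub_self]
  have h4 : (1 - E) * (1 - E) = 1 - E := by rw [mul_sub, mul_one, h2, sub_zero]
  have hn : ∀ X Y : R, E * X * (1 - E) * (E * Y * (1 - E)) = 0 := fun X Y => by
    rw [show E * X * (1 - E) * (E * Y * (1 - E)) = E * X * ((1 - E) * E) * Y * (1 - E) by simp only [mul_assoc], h2]
    simp
  let f := (diaHom ρ hE h).toHomUnits
  have hf : ∀ s, (f s : R) = dia E (ρ s) := fun _ => rfl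
  have hm : ∀ s, s ∈ f.ker ↔ dia E (ρ s) = 1 := fun s => by rw [MonoidHom.mem_ker, ← Units.val_eq_one, hf]
  have hQ : IsPGroup 3 f.ker := fun s => by
    refine ⟨2, Subtype.ext ?_⟩
    rw [coe_pow, pow_two, pow_mul]
    refine hk _ ?_
    have h5 := eq_dia (h s)
    rw [(hm s).1 s.2] at h5
    rw [map_pow, h5]
    generalize hx : E * ρ s * (1 - E) = n
    have h6 : n * n = 0 := hx ▸ hn _ _
    rw [show (1 + n) ^ 3 = 1 + 3 * n + 3 * (n * n) + n * (n * n) by noncomm_ring, h6, h3]
    simp
  refine Big.of_T f hQ t (fun s => Units.ext ?_) (fun h5 => ?_) ?_ fun s hs h5 => hu1 ?_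
  · rw [Units.val_mul, Units.val_mul, hf, hf, ht, add_mul, mul_add, one_mul, mul_one, dia, mul_add, add_mul,
      ← mul_assoc, ← mul_assoc, hE, ← mul_assoc, ← mul_assoc, h1, mul_assoc _ E E, hE, mul_assoc _ (1 - E) E, h2]
    simp
  · have h6 : f t ^ 2 = 1 := Units.ext (by
      rw [Units.val_pow_eq_pow_val, hf, ht, show (1 + E) ^ 2 = 1 + E + E + E * E by noncomm_ring, hE,
        show 1 + E + E + E = 1 + 3 * E by noncomm_ring, h3, zero_mul, add_zero, Units.val_one])
    have h7 := h5.trans (orderOf_dvd_of_pow_eq_one h6)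
    omega
  · rw [← index_ker]
    exact h9 _ hQ fun s hs => (hm s).1 hs
  · have h6 := congrArg ρ (mem_centralizer_iff.1 h5 u ((hm u).2 hu))
    have h7 := eq_dia (h s)
    have h8 := eq_dia (h u)
    rw [← hf, hs, hf, ht] at h7
    rw [hu] at h8
    rw [map_mul, map_mul, h7, h8] at h6
    have h10 := hn (ρ u) (ρ s)
    have h11 := hn (ρ s) (ρ u)
    have h12 : E * ρ u * (1 - E) * E = 0 := by rw [mul_assoc, h2, mul_zero]
    have h13 : E * (E * ρ u * (1 - E)) = E * ρ u * (1 - E) := by rw [← mul_assoc, ← mul_assoc, hE]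
    rw [h8]
    generalize E * ρ u * (1 - E) = n at *
    generalize E * ρ s * (1 - E) = m at *
    rw [show (1 + n) * (1 + E + m) = 1 + E + m + n + n * E + n * m by noncomm_ring,
      show (1 + E + m) * (1 + n) = 1 + E + m + n + E * n + m * n by noncomm_ring, h10, h11, h12, h13] at h6
    simpa using h6

end

end Cfsg.Agent.KZ.SporC
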